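/-!
Data: a polycyclic series of a Sylow 2-subgroup of the group of the code, adapted to its abelian
subgroup of index 8 modulo the centre.
-/

set_option autoImplicit false

namespace CfsgLib.Golay.SylowQuot

/-- The centre generator first, then the abelian part. -/
def qPc : List (List Nat) :=
  [[13, 22, 2, 7, 4, 19, 21, 3, 8, 12, 18, 11, 9, 0, 17, 15, 16, 14, 10, 5, 20, 6, 1, 23],
   [0, 1, 4, 7, 2, 19, 21, 3, 15, 9, 10, 20, 12, 13, 17, 8, 23, 14, 18, 5, 11, 6, 22, 16],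
   [0, 1, 16, 7, 23, 19, 6, 3, 11, 12, 18, 8, 9, 13, 14, 20, 2, 17, 10, 5, 15, 21, 22, 4],
   [0, 22, 8, 7, 15, 5, 6, 3, 2, 12, 10, 16, 9, 13, 17, 4, 11, 14, 18, 19, 23, 21, 1, 20],
   [14, 6, 2, 18, 4, 9, 1, 10, 8, 5, 7, 11, 19, 17, 0, 15, 16, 13, 3, 12, 20, 22, 21, 23],
   [1, 0, 2, 19, 4, 7, 14, 5, 8, 10, 9, 11, 18, 22, 6, 15, 16, 21, 12, 3, 20, 17, 13, 23],
   [3, 5, 11, 0, 20, 1, 12, 13, 16, 21, 14, 2, 6, 7, 10, 23, 8, 18, 17, 22, 4, 9, 19, 15],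
   [0, 1, 2, 5, 4, 3, 21, 19, 11, 10, 9, 8, 18, 13, 17, 20, 16, 14, 12, 7, 15, 6, 22, 23],
   [0, 1, 8, 10, 20, 12, 21, 18, 16, 5, 7, 2, 19, 13, 17, 4, 11, 14, 3, 9, 23, 6, 22, 15],
   [0, 6, 2, 7, 8, 12, 1, 3, 4, 19, 18, 23, 5, 13, 14, 15, 16, 17, 10, 9, 20, 22, 21, 11]]

/-- Generators modulo squares. -/
def qX : List (List Nat) :=
  [[0, 6, 2, 7, 8, 12, 1, 3, 4, 19, 18, 23, 5, 13, 14, 15, 16, 17, 10, 9, 20, 22, 21, 11],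
   [0, 1, 8, 10, 20, 12, 21, 18, 16, 5, 7, 2, 19, 13, 17, 4, 11, 14, 3, 9, 23, 6, 22, 15],
   [0, 1, 2, 5, 4, 3, 21, 19, 11, 10, 9, 8, 18, 13, 17, 20, 16, 14, 12, 7, 15, 6, 22, 23],
   [3, 5, 11, 0, 20, 1, 12, 13, 16, 21, 14, 2, 6, 7, 10, 23, 8, 18, 17, 22, 4, 9, 19, 15]]

/-- Each member as two squares times generators. -/
def qDec : List (List Nat × List Nat × Nat) :=
  [([0, 1, 2, 3, 4, 5, 6, 7, 8, 9, 10, 11, 12, 13, 14, 15, 16, 17, 18, 19, 20, 21, 22, 23], [14, 6, 2, 9, 4, 18, 22, 12, 11, 7, 5, 8, 3, 17, 13, 20, 16, 0, 19, 10, 15, 1, 21, 23], 0),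
   ([0, 1, 2, 3, 4, 5, 6, 7, 8, 9, 10, 11, 12, 13, 14, 15, 16, 17, 18, 19, 20, 21, 22, 23], [0, 6, 8, 9, 2, 3, 1, 12, 20, 18, 19, 15, 10, 13, 14, 23, 11, 17, 5, 7, 4, 22, 21, 16], 2),
   ([0, 1, 2, 3, 4, 5, 6, 7, 8, 9, 10, 11, 12, 13, 14, 15, 16, 17, 18, 19, 20, 21, 22, 23], [0, 1, 8, 10, 20, 12, 21, 18, 16, 5, 7, 2, 19, 13, 17, 4, 11, 14, 3, 9, 23, 6, 22, 15], 0),
   ([0, 1, 2, 3, 4, 5, 6, 7, 8, 9, 10, 11, 12, 13, 14, 15, 16, 17, 18, 19, 20, 21, 22, 23], [0, 6, 20, 19, 4, 10, 22, 5, 11, 3, 12, 8, 7, 13, 17, 2, 15, 14, 9, 18, 16, 1, 21, 23], 2),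
   ([0, 1, 2, 3, 4, 5, 6, 7, 8, 9, 10, 11, 12, 13, 14, 15, 16, 17, 18, 19, 20, 21, 22, 23], [1, 14, 2, 5, 8, 18, 0, 19, 4, 3, 12, 23, 7, 22, 6, 15, 16, 21, 9, 10, 20, 13, 17, 11], 0),
   ([0, 1, 2, 3, 4, 5, 6, 7, 8, 9, 10, 11, 12, 13, 14, 15, 16, 17, 18, 19, 20, 21, 22, 23], [3, 19, 4, 1, 2, 13, 12, 22, 20, 17, 21, 15, 14, 7, 18, 11, 23, 10, 6, 0, 8, 9, 5, 16], 0),
   ([0, 1, 2, 3, 4, 5, 6, 7, 8, 9, 10, 11, 12, 13, 14, 15, 16, 17, 18, 19, 20, 21, 22, 23], [0, 1, 2, 3, 4, 5, 6, 7, 8, 9, 10, 11, 12, 13, 14, 15, 16, 17, 18, 19, 20, 21, 22, 23], 8),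
   ([0, 1, 2, 3, 4, 5, 6, 7, 8, 9, 10, 11, 12, 13, 14, 15, 16, 17, 18, 19, 20, 21, 22, 23], [0, 1, 2, 3, 4, 5, 6, 7, 8, 9, 10, 11, 12, 13, 14, 15, 16, 17, 18, 19, 20, 21, 22, 23], 4),
   ([0, 1, 2, 3, 4, 5, 6, 7, 8, 9, 10, 11, 12, 13, 14, 15, 16, 17, 18, 19, 20, 21, 22, 23], [0, 1, 2, 3, 4, 5, 6, 7, 8, 9, 10, 11, 12, 13, 14, 15, 16, 17, 18, 19, 20, 21, 22, 23], 2),
   ([0, 1, 2, 3, 4, 5, 6, 7, 8, 9, 10, 11, 12, 13, 14, 15, 16, 17, 18, 19, 20, 21, 22, 23], [0, 1, 2, 3, 4, 5, 6, 7, 8, 9, 10, 11, 12, 13, 14, 15, 16, 17, 18, 19, 20, 21, 22, 23], 1)]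

end CfsgLib.Golay.SylowQuot
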