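import Cfsg.Agent.Golay.MathieuFusion
import Cfsg.Agent.Golay.SylowQuot.Data

/-!
Checks on the adapted series of a Sylow 2-subgroup of the group of the code: commutation modulo
the centre, counts of centralizers.
-/

set_option autoImplicit false
set_option maxRecDepth 100000
set_option Elab.async false

namespace CfsgLib.Golay.SylowQuot

open CfsgLib.Golay.SylowCert

/-- The list of the central involution. -/
def zL : List ℕ := qPc.getD 0 []

/-- Commutation modulo the central involution, pointwise. -/
def commAt (z a w : List ℕ) : Bool :=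
  (List.range 24).all (fun i => Nat.beq (a.getD (w.getD i 0) 0) (w.getD (a.getD i 0) 0)) ||
  (List.range 24).all (fun i => Nat.beq (a.getD (w.getD i 0) 0) (z.getD (w.getD (a.getD i 0) 0) 0))

/-- The generator modulo squares with a given number. -/
def xL (i : ℕ) : List ℕ := qX.getD i []

/-- The pattern of three elements of the maximal subgroup with the given label. -/
def patW (c : ℕ) : List (List ℕ) :=
  let k := if c.testBit 0 then 0 else if c.testBit 1 then 1 else if c.testBit 2 then 2 else 3
  ((List.range 4).filter fun i => !(i == k)).map fun i =>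
    if c.testBit i then compL (xL k) (xL i) else xL i

/-- The factor for a bit. -/
def bitL (s j : ℕ) (L : List ℕ) : List ℕ := if s.testBit j then L else List.range 24

/-- A word in the four generators. -/
def wordL (s : ℕ) : List ℕ :=
  compL (compL (compL (bitL s 0 (xL 0)) (bitL s 1 (xL 1))) (bitL s 2 (xL 2))) (bitL s 3 (xL 3))

/-- The coset representatives of the abelian part. -/
def repL (s : ℕ) : List ℕ :=
  compL (compL (bitL s 2 (qPc.getD 9 [])) (bitL s 1 (qPc.getD 8 []))) (bitL s 0 (qPc.getD 7 []))

/-- The number of elements of the abelian part commuting with the given ones. -/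
def cnt (R : List (List ℕ)) : ℕ :=
  ((els qPc 7).filter fun u => R.all fun r => commAt zL r u).length

theorem pcQ : PcOK qPc := by decide +kernel

theorem qPc_length : qPc.length = 10 := rfl

theorem qPc_preserves : ∀ L ∈ qPc, PreservesCode L := by unfold PreservesCode; decide +kernel

theorem zL_central : ∀ g ∈ qPc, compL zL g = compL g zL := by decide +kernel

theorem zL_sq : compL zL zL = List.range 24 := by decide +kernel

theorem center_check : ∀ a ∈ els qPc 10,
    (∀ j < 10, compL a (qPc.getD j []) = compL (qPc.getD j []) a) →
      a = List.range 24 ∨ a = zL := by decide +kernel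

theorem sq_check : ∀ a ∈ els qPc 7, compL a a = List.range 24 ∨ compL a a = zL := by decide +kernel

theorem qX_mem : ∀ i < 4, xL i ∈ els qPc 10 := by decide +kernel

theorem qX_good : ∀ i < 4, Good (xL i) ∧ (xL i).length = 24 := by decide +kernel

theorem dec_check : ∀ j < 10, ∃ d ∈ qDec, (Good d.1 ∧ d.1.length = 24 ∧ d.1 ∈ els qPc 10) ∧
    (Good d.2.1 ∧ d.2.1.length = 24 ∧ d.2.1 ∈ els qPc 10) ∧
    qPc.getD j [] = compL (compL (compL d.1 d.1) (compL d.2.1 d.2.1)) (wordL d.2.2) := by
  decide +kernel

theorem pat_check : ∀ c < 16, 0 < c →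
    ((els qPc 10).filter fun a => (patW c).all (commAt zL a)).length ≤ 16 := by decide +kernel

theorem cnt_one : ∀ s < 8, 0 < s → cnt [repL s] ≤ 32 := by decide +kernel

theorem cnt_two : ∀ s < 8, ∀ t < 8, 0 < s → 0 < t → s ≠ t → cnt [repL s, repL t] ≤ 16 := by
  decide +kernel

theorem cnt_three : cnt [repL 1, repL 2, repL 4] ≤ 8 := by decide +kernel

end CfsgLib.Golay.SylowQuot
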