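import Cfsg.Agent.Golay.SylowQuot.Cert
import Cfsg.Prelude.Def_Transfer

/-!
The quotient of a Sylow 2-subgroup of the group of the code by its centre.
-/

set_option autoImplicit false
set_option linter.style.haveILetI false

namespace CfsgLib.Golay.SylowQuot

open Cfsg Subgroup CfsgLib.Golay.SylowCert

/-- The Sylow group as permutations. -/
def P0 : Subgroup (Equiv.Perm GolayPt) := pcGroup qPc 10

/-- Its abelian part. -/
def A0 : Subgroup (Equiv.Perm GolayPt) := pcGroup qPc 7

/-- The central involution. -/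
noncomputable def zP : Equiv.Perm GolayPt := permL zL

theorem mem_P0 {σ : Equiv.Perm GolayPt} : σ ∈ P0 ↔ toList σ ∈ els qPc 10 :=
  mem_pcGroup pcQ 10 qPc_length.ge σ

theorem mem_A0 {σ : Equiv.Perm GolayPt} : σ ∈ A0 ↔ toList σ ∈ els qPc 7 :=
  mem_pcGroup pcQ 7 (by rw [qPc_length]; norm_num) σ

theorem A0_le : A0 ≤ P0 :=
  Subgroup.closure_mono fun s ⟨j, hj, hs⟩ => ⟨j, by omega, hs⟩

theorem gen_mem {j : ℕ} (hj : j < 10) : permL (qPc.getD j []) ∈ P0 :=
  Subgroup.subset_closure ⟨j, hj, rfl⟩

theorem gen_good {j : ℕ} (hj : j < 10) : Good (qPc.getD j []) ∧ (qPc.getD j []).length = 24 :=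
  good_getD pcQ (qPc_length ▸ hj)

theorem toList_gen {j : ℕ} (hj : j < 10) : toList (permL (qPc.getD j [])) = qPc.getD j [] :=
  toList_permL (gen_good hj).1 (gen_good hj).2

theorem toList_zP : toList zP = zL := toList_gen (j := 0) (by norm_num)

theorem zP_mem_A0 : zP ∈ A0 := Subgroup.subset_closure ⟨0, by norm_num, rfl⟩

theorem zP_mem : zP ∈ P0 := A0_le zP_mem_A0

theorem zP_ne_one : zP ≠ 1 := fun h => by
  refine (pcQ.2 0 (by rw [qPc_length]; norm_num)).1 ?_
  rw [els, List.mem_singleton, ← toList_one, ← h]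
  exact toList_zP.symm

theorem center_iff {σ : Equiv.Perm GolayPt} (hσ : σ ∈ P0) :
    (∀ τ ∈ P0, σ * τ = τ * σ) ↔ σ = 1 ∨ σ = zP := by
  constructor
  · intro h
    rcases center_check _ (mem_P0.1 hσ) (fun j hj => by
      rw [← toList_gen hj, ← toList_mul, ← toList_mul, h _ (gen_mem hj)]) with e | e
    · exact Or.inl (toList_injective (e.trans toList_one.symm))
    · exact Or.inr (toList_injective (e.trans toList_zP.symm))
  · rintro (rfl | rfl) τ hτ
    · simp
    · have hle : P0 ≤ Subgroup.centralizer ({zP} : Set (Equiv.Perm GolayPt)) := by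
        rw [P0, pcGroup, Subgroup.closure_le]
        rintro _ ⟨j, hj, rfl⟩
        rw [SetLike.mem_coe, Subgroup.mem_centralizer_iff]
        rintro _ rfl
        refine toList_injective ?_
        rw [toList_mul, toList_mul, toList_zP, toList_gen hj]
        refine zL_central _ ?_
        rw [List.getD_eq_getElem _ _ (qPc_length ▸ hj)]
        exact List.getElem_mem _
      exact Subgroup.mem_centralizer_iff.1 (hle hτ) zP rfl

theorem getD_toList (σ : Equiv.Perm GolayPt) {i : ℕ} (hi : i < 24) :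
    (toList σ).getD i 0 = idx (σ (pt i)) := by
  conv_lhs => rw [show i = idx (pt i) from (idx_pt i hi).symm]
  exact toList_getD_idx σ (pt i)

theorem commAt_of {σ τ : Equiv.Perm GolayPt} (h : σ * τ = τ * σ ∨ σ * τ = zP * (τ * σ)) :
    commAt zL (toList σ) (toList τ) = true := by
  rw [commAt, Bool.or_eq_true, List.all_eq_true, List.all_eq_true]
  rcases h with h | h
  · refine Or.inl fun i hi => ?_
    rw [List.mem_range] at hi
    rw [getD_toList τ hi, getD_toList σ hi, toList_getD_idx, toList_getD_idx]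
    simpa [Equiv.Perm.mul_apply] using congrArg (fun ρ : Equiv.Perm GolayPt => idx (ρ (pt i))) h
  · refine Or.inr fun i hi => ?_
    rw [List.mem_range] at hi
    rw [getD_toList τ hi, getD_toList σ hi, toList_getD_idx, toList_getD_idx, ← toList_zP,
      toList_getD_idx]
    simpa [Equiv.Perm.mul_apply] using congrArg (fun ρ : Equiv.Perm GolayPt => idx (ρ (pt i))) h

theorem card_le_filter {X : Type*} (f : X → Equiv.Perm GolayPt) (hf : Function.Injective f)
    (l : List (List ℕ)) (h : ∀ x, toList (f x) ∈ l) : Nat.card X ≤ l.length := by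
  refine (Nat.card_le_card_of_injective (fun x => (⟨toList (f x), List.mem_toFinset.2 (h x)⟩ : l.toFinset))
    fun a b hab => hf (toList_injective (congrArg Subtype.val hab))).trans ?_
  rw [Nat.card_eq_fintype_card, Fintype.card_coe]
  exact List.toFinset_card_le _

/-- The factor for a bit. -/
noncomputable def bitP (s j : ℕ) (σ : Equiv.Perm GolayPt) : Equiv.Perm GolayPt :=
  if s.testBit j then σ else 1

theorem toList_bitP (s j : ℕ) (σ : Equiv.Perm GolayPt) : toList (bitP s j σ) = bitL s j (toList σ) := by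
  unfold bitP bitL; split_ifs <;> simp [toList_one]

theorem bitP_mem {K : Subgroup (Equiv.Perm GolayPt)} (s j : ℕ) {σ : Equiv.Perm GolayPt}
    (h : s.testBit j = true → σ ∈ K) : bitP s j σ ∈ K := by
  unfold bitP; split_ifs with h'
  · exact h h'
  · exact one_mem K

/-- The coset representatives. -/
noncomputable def repP (s : ℕ) : Equiv.Perm GolayPt :=
  bitP s 2 (permL (qPc.getD 9 [])) * bitP s 1 (permL (qPc.getD 8 [])) * bitP s 0 (permL (qPc.getD 7 []))

theorem toList_repP (s : ℕ) : toList (repP s) = repL s := by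
  rw [repP, repL, toList_mul, toList_mul, toList_bitP, toList_bitP, toList_bitP,
    toList_gen (j := 9) (by norm_num), toList_gen (j := 8) (by norm_num), toList_gen (j := 7) (by norm_num)]

theorem repP_mem (s : ℕ) : repP s ∈ P0 :=
  mul_mem (mul_mem (bitP_mem _ _ fun _ => gen_mem (by norm_num)) (bitP_mem _ _ fun _ => gen_mem (by norm_num)))
    (bitP_mem _ _ fun _ => gen_mem (by norm_num))

theorem split_step {i : ℕ} (hi : i < 10) {σ : Equiv.Perm GolayPt} (h : σ ∈ pcGroup qPc (i + 1)) :
    σ ∈ pcGroup qPc i ∨ (permL (qPc.getD i []))⁻¹ * σ ∈ pcGroup qPc i := by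
  have hil : i < qPc.length := qPc_length ▸ hi
  have hu := (mem_pcGroup pcQ (i + 1) hil σ).1 h
  rw [els, List.mem_append, List.mem_map] at hu
  rcases hu with hu | ⟨v, hv, hvu⟩
  · exact Or.inl ((mem_pcGroup pcQ i hil.le σ).2 hu)
  · refine Or.inr ((mem_pcGroup pcQ i hil.le _).2 ?_)
    have hvl : toList ((permL (qPc.getD i []))⁻¹ * σ) = v := by
      rw [toList_mul, ← hvu, toList_inv, toList_gen hi]
      exact mem_pcGroup.compL_invL_cancel (gen_good hi).1 (mem_pcGroup.els_length pcQ (i := i) hil.le hv)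
    exact hvl ▸ hv

theorem exists_rep {σ : Equiv.Perm GolayPt} (h : σ ∈ P0) :
    ∃ s < 8, (repP s)⁻¹ * σ ∈ A0 := by
  have key : ∃ b2 b1 b0 : Bool,
      ((if b2 then permL (qPc.getD 9 []) else 1) * (if b1 then permL (qPc.getD 8 []) else 1) *
        (if b0 then permL (qPc.getD 7 []) else 1))⁻¹ * σ ∈ A0 := by
    have l2 : ∃ b : Bool, (if b then permL (qPc.getD 9 []) else 1)⁻¹ * σ ∈ pcGroup qPc 9 := by
      rcases split_step (i := 9) (by norm_num) h with h | h
      · exact ⟨false, by simpa using h⟩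
      · exact ⟨true, by simpa using h⟩
    obtain ⟨b2, hb2⟩ := l2
    have l1 : ∃ b : Bool, (if b then permL (qPc.getD 8 []) else 1)⁻¹ *
        ((if b2 then permL (qPc.getD 9 []) else 1)⁻¹ * σ) ∈ pcGroup qPc 8 := by
      rcases split_step (i := 8) (by norm_num) hb2 with h | h
      · exact ⟨false, by simpa using h⟩
      · exact ⟨true, by simpa using h⟩
    obtain ⟨b1, hb1⟩ := l1
    rcases split_step (i := 7) (by norm_num) hb1 with h | h
    · refine ⟨b2, b1, false, ?_⟩
      simp only [Bool.false_eq_true, ↓reduceIte, mul_one, _root_.mul_inv_rev, mul_assoc, A0]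
      exact h
    · refine ⟨b2, b1, true, ?_⟩
      simp only [↓reduceIte, _root_.mul_inv_rev, mul_assoc, A0]
      exact h
  obtain ⟨b2, b1, b0, hk⟩ := key
  refine ⟨b2.toNat * 4 + b1.toNat * 2 + b0.toNat, by cases b2 <;> cases b1 <;> cases b0 <;> decide, ?_⟩
  have hb : ∀ a b c : Bool, (a.toNat * 4 + b.toNat * 2 + c.toNat).testBit 2 = a ∧
      (a.toNat * 4 + b.toNat * 2 + c.toNat).testBit 1 = b ∧
      (a.toNat * 4 + b.toNat * 2 + c.toNat).testBit 0 = c := by decide
  simpa [repP, bitP, hb] using hk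

theorem map_mk_facts {P : Type*} [Group P] [Finite P] (H : Subgroup (P ⧸ Subgroup.center P)) :
    Nat.card (H.comap (QuotientGroup.mk' (Subgroup.center P))) =
      Nat.card (Subgroup.center P) * Nat.card H := by
  set π := QuotientGroup.mk' (Subgroup.center P)
  have h1 := Subgroup.card_mul_index (H.comap π)
  rw [Subgroup.index_comap_of_surjective _ (QuotientGroup.mk'_surjective _),
    Subgroup.card_eq_card_quotient_mul_card_subgroup (Subgroup.center P), ← Subgroup.card_mul_index H] at h1
  exact Nat.eq_of_mul_eq_mul_right (Nat.pos_of_ne_zero Subgroup.index_ne_zero_of_finite)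
    (h1.trans (by ring))

/-- The facts for a group embedded onto `P0`. -/
theorem quotient_facts {P : Type*} [Group P] [Finite P] (φ : P →* Equiv.Perm GolayPt)
    (hφ : Function.Injective φ) (hr : φ.range = P0) :
    (∀ M : Subgroup (P ⧸ Subgroup.center P), IsCoatom M → Nat.card (Subgroup.center M) ≤ 8) ∧
      (∃ A : Subgroup (P ⧸ Subgroup.center P), Cfsg.IsElementaryAbelian 2 A ∧ Nat.card A = 64) ∧
      ∀ A B : Subgroup (P ⧸ Subgroup.center P), IsMulCommutative A → Nat.card A = 64 →
        IsMulCommutative B → Nat.card B = 64 → A = B := by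
  classical
  set Z := Subgroup.center P
  set π := QuotientGroup.mk' Z with hπ
  have hin : ∀ x, φ x ∈ P0 := fun x => hr ▸ ⟨x, rfl⟩
  have hsur : ∀ σ ∈ P0, ∃ x, φ x = σ := fun σ hσ => by rw [← hr] at hσ; exact hσ
  have hZ : ∀ x, x ∈ Z ↔ φ x = 1 ∨ φ x = zP := by
    intro x
    rw [← center_iff (hin x), Subgroup.mem_center_iff]
    constructor
    · intro h τ hτ
      obtain ⟨y, rfl⟩ := hsur τ hτ
      rw [← map_mul, ← map_mul, h y]
    · intro h y
      exact hφ (by rw [map_mul, map_mul, h _ (hin y)])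
  have hcardP : Nat.card P = 1024 := by
    rw [Nat.card_congr (MonoidHom.ofInjective hφ).toEquiv, hr, P0,
      card_pcGroup pcQ 10 qPc_length.ge]
    norm_num
  obtain ⟨xz, hxz⟩ := hsur zP zP_mem
  have hcardZ : Nat.card Z = 2 := by
    have h : (Z : Set P) = {1, xz} := by
      ext x
      rw [SetLike.mem_coe, hZ, Set.mem_insert_iff, Set.mem_singleton_iff, ← hxz, hφ.eq_iff,
        ← map_one φ, hφ.eq_iff]
    rw [← SetLike.coe_sort_coe, Nat.card_coe_set_eq, h, Set.ncard_pair]
    intro h1
    exact zP_ne_one (by rw [← hxz, ← h1, map_one])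
  have hcardS : Nat.card (P ⧸ Z) = 512 := by
    have := Subgroup.card_eq_card_quotient_mul_card_subgroup Z
    rw [hcardP, hcardZ] at this
    omega
  have hcomm : ∀ x y, π x * π y = π y * π x →
      commAt zL (toList (φ x)) (toList (φ y)) = true := by
    intro x y h
    refine commAt_of ?_
    rw [← map_mul, ← map_mul] at h
    have hc : x * y * (y * x)⁻¹ ∈ Z := by
      rw [← QuotientGroup.ker_mk' Z, MonoidHom.mem_ker, map_mul, map_inv, ← hπ, h, mul_inv_cancel]
    rcases (hZ _).1 hc with e | e <;> rw [map_mul, map_inv, mul_inv_eq_iff_eq_mul] at e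
    · exact Or.inl (by rw [← map_mul, e, one_mul, map_mul])
    · exact Or.inr (by rw [← map_mul, e, map_mul])
  refine ⟨?_, ?_⟩
  · intro M hM
    have hp : IsPGroup 2 (P ⧸ Z) := IsPGroup.of_card (n := 9) (by rw [hcardS]; norm_num)
    have hidx : M.index = 2 := by
      obtain ⟨k, hk⟩ := (IsPGroup.iff_card (p := 2)).1 (hp.to_subgroup M)
      have hk9 : k < 9 := by
        have hlt : Nat.card M < 512 := by
          refine lt_of_le_of_ne (hcardS ▸ Subgroup.card_le_card_group M) fun e => hM.1 ?_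
          exact Subgroup.eq_top_of_card_eq M (e.trans hcardS.symm)
        rw [hk] at hlt
        exact (Nat.pow_lt_pow_iff_right (by norm_num)).1 (hlt.trans_eq (by norm_num))
      haveI : Fact (Nat.Prime 2) := ⟨Nat.prime_two⟩
      have hdvd : 2 ^ (k + 1) ∣ Nat.card (P ⧸ Z) := by
        rw [hcardS, show (512 : ℕ) = 2 ^ 9 by norm_num]
        exact pow_dvd_pow 2 hk9
      obtain ⟨K, hK, hMK⟩ := Sylow.exists_subgroup_card_pow_succ hdvd hk
      have hKtop : K = ⊤ := hM.2 K (lt_of_le_of_ne hMK fun e => by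
        rw [← e, hk] at hK
        exact absurd (Nat.pow_right_injective le_rfl hK) (by omega))
      rw [hKtop, Subgroup.card_top, hcardS] at hK
      have h9 := Subgroup.card_mul_index M
      rw [hk, hcardS, hK, pow_succ] at h9
      exact Nat.eq_of_mul_eq_mul_left (pow_pos (by norm_num) k) h9
    set Mt := M.comap π
    have hit : Mt.index = 2 := by
      rw [Subgroup.index_comap_of_surjective _ (QuotientGroup.mk'_surjective _), hidx]
    have hx : ∀ i, i < 4 → ∃ x, φ x = permL (xL i) := fun i hi => hsur _ (mem_P0.2 (by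
      rw [toList_permL (qX_good i hi).1 (qX_good i hi).2]; exact qX_mem i hi))
    choose x hx using hx
    have hsq : ∀ a, a * a ∈ Mt := fun a => Subgroup.mul_self_mem_of_index_two hit a
    set b : ℕ → Bool := fun i => if h : i < 4 then decide (x i h ∉ Mt) else false with hb
    have hbit : ∀ b0 b1 b2 b3 : Bool,
        ((b3.toNat * 8 + b2.toNat * 4 + b1.toNat * 2 + b0.toNat).testBit 0 = b0 ∧
        (b3.toNat * 8 + b2.toNat * 4 + b1.toNat * 2 + b0.toNat).testBit 1 = b1 ∧
        (b3.toNat * 8 + b2.toNat * 4 + b1.toNat * 2 + b0.toNat).testBit 2 = b2 ∧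
        (b3.toNat * 8 + b2.toNat * 4 + b1.toNat * 2 + b0.toNat).testBit 3 = b3) ∧
        b3.toNat * 8 + b2.toNat * 4 + b1.toNat * 2 + b0.toNat < 16 := by decide
    obtain ⟨⟨hc0, hc1, hc2, hc3⟩, hc16⟩ := hbit (b 0) (b 1) (b 2) (b 3)
    set c := (b 3).toNat * 8 + (b 2).toNat * 4 + (b 1).toNat * 2 + (b 0).toNat
    have hc : ∀ i (h : i < 4), c.testBit i = true ↔ x i h ∉ Mt := by
      intro i h
      interval_cases i <;> simp [hc0, hc1, hc2, hc3, hb]
    have hc0' : 0 < c := by
      refine Nat.pos_of_ne_zero fun h0 => ?_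
      have hall : ∀ i (h : i < 4), x i h ∈ Mt := fun i h => by
        by_contra hn
        have := (hc i h).2 hn
        rw [h0] at this
        simp at this
      have hgens : P0 ≤ Mt.map φ := by
        rw [P0, pcGroup, Subgroup.closure_le]
        rintro _ ⟨j, hj, rfl⟩
        obtain ⟨d, -, ⟨ga, la, ma⟩, ⟨gb, lb, mb⟩, he⟩ := dec_check j hj
        obtain ⟨a, ha⟩ := hsur (permL d.1) (mem_P0.2 (by rw [toList_permL ga la]; exact ma))
        obtain ⟨a', ha'⟩ := hsur (permL d.2.1) (mem_P0.2 (by rw [toList_permL gb lb]; exact mb))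
        have hw : bitP d.2.2 0 (permL (xL 0)) * bitP d.2.2 1 (permL (xL 1)) *
            bitP d.2.2 2 (permL (xL 2)) * bitP d.2.2 3 (permL (xL 3)) ∈ Mt.map φ :=
          mul_mem (mul_mem (mul_mem (bitP_mem _ _ fun _ => ⟨_, hall 0 (by norm_num), hx 0 _⟩)
            (bitP_mem _ _ fun _ => ⟨_, hall 1 (by norm_num), hx 1 _⟩))
            (bitP_mem _ _ fun _ => ⟨_, hall 2 (by norm_num), hx 2 _⟩))
            (bitP_mem _ _ fun _ => ⟨_, hall 3 (by norm_num), hx 3 _⟩)
        have hxl : ∀ i < 4, toList (permL (xL i)) = xL i := fun i hi =>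
          toList_permL (qX_good i hi).1 (qX_good i hi).2
        have hperm : permL (qPc.getD j []) = (permL d.1 * permL d.1) * (permL d.2.1 * permL d.2.1) *
            (bitP d.2.2 0 (permL (xL 0)) * bitP d.2.2 1 (permL (xL 1)) *
            bitP d.2.2 2 (permL (xL 2)) * bitP d.2.2 3 (permL (xL 3))) := by
          refine toList_injective ?_
          simp only [toList_mul, toList_bitP, toList_gen hj, toList_permL ga la, toList_permL gb lb,
            hxl 0 (by norm_num), hxl 1 (by norm_num), hxl 2 (by norm_num), hxl 3 (by norm_num)]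
          exact he
        rw [SetLike.mem_coe, hperm]
        exact mul_mem (mul_mem ⟨a * a, hsq a, by rw [map_mul, ha]⟩ ⟨a' * a', hsq a', by rw [map_mul, ha']⟩) hw
      have htop : Mt = ⊤ := by
        rw [eq_top_iff]
        intro y _
        obtain ⟨w, hw, e⟩ := hgens (hin y)
        exact hφ e ▸ hw
      rw [htop, Subgroup.index_top] at hit
      omega
    have hW : ∀ w ∈ patW c, ∃ y ∈ Mt, toList (φ y) = w := by
      intro w hw
      simp only [patW, List.mem_map, List.mem_filter, List.mem_range] at hw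
      set k := if c.testBit 0 then 0 else if c.testBit 1 then 1 else if c.testBit 2 then 2 else 3
      have hk : k < 4 ∧ c.testBit k = true := by
        have hor : c.testBit 0 = true ∨ c.testBit 1 = true ∨ c.testBit 2 = true ∨ c.testBit 3 = true := by
          have : ∀ c < 16, 0 < c → c.testBit 0 = true ∨ c.testBit 1 = true ∨ c.testBit 2 = true ∨
              c.testBit 3 = true := by decide
          exact this c hc16 hc0'
        simp only [k]
        split_ifs with h0 h1 h2
        · exact ⟨by norm_num, h0⟩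
        · exact ⟨by norm_num, h1⟩
        · exact ⟨by norm_num, h2⟩
        · exact ⟨by norm_num, (((hor.resolve_left h0).resolve_left h1).resolve_left h2)⟩
      obtain ⟨i, ⟨hi, -⟩, rfl⟩ := hw
      have hxi : toList (φ (x i hi)) = xL i := by rw [hx, toList_permL (qX_good i hi).1 (qX_good i hi).2]
      by_cases h : c.testBit i = true
      · rw [if_pos h]
        refine ⟨x k hk.1 * x i hi, ?_, ?_⟩
        · rw [Subgroup.mul_mem_iff_of_index_two hit]
          exact iff_of_false ((hc k hk.1).1 hk.2) ((hc i hi).1 h)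
        · rw [map_mul, toList_mul, hxi, hx, toList_permL (qX_good k hk.1).1 (qX_good k hk.1).2]
      · rw [if_neg h]
        exact ⟨x i hi, by_contra fun hn => h ((hc i hi).2 hn), hxi⟩
    set Zm := ((Subgroup.center M).map M.subtype).comap π
    have hcardZm : Nat.card Zm = 2 * Nat.card (Subgroup.center M) := by
      rw [map_mk_facts, hcardZ, Subgroup.card_map_of_injective M.subtype_injective]
    have hle : Nat.card Zm ≤ ((els qPc 10).filter fun a => (patW c).all (commAt zL a)).length := by
      refine card_le_filter (fun a : Zm => φ a) (hφ.comp Subtype.val_injective) _ fun a => ?_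
      rw [List.mem_filter, List.all_eq_true]
      refine ⟨mem_P0.1 (hin _), fun w hw => ?_⟩
      obtain ⟨y, hy, rfl⟩ := hW w hw
      obtain ⟨m, hm, hma⟩ := a.2
      refine hcomm _ _ ?_
      rw [← hma]
      exact (congrArg Subtype.val (Subgroup.mem_center_iff.1 hm ⟨π y, hy⟩)).symm
    have := pat_check c hc16 hc0'
    omega
  set At := A0.comap φ
  set A := At.map π
  have hAt : A.comap π = At := by
    rw [Subgroup.comap_map_eq, QuotientGroup.ker_mk', sup_eq_left]
    intro y hy
    rcases (hZ y).1 hy with e | e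
    · exact Subgroup.mem_comap.2 (e ▸ one_mem _)
    · exact Subgroup.mem_comap.2 (e ▸ zP_mem_A0)
  have hcardAt : Nat.card At = 128 := by
    have h : At.map φ = A0 := Subgroup.map_comap_eq_self (hr ▸ A0_le)
    rw [← Subgroup.card_map_of_injective hφ, h, A0, card_pcGroup pcQ 7 (by rw [qPc_length]; norm_num)]
    norm_num
  have hcardA : Nat.card A = 64 := by
    have := map_mk_facts A
    rw [hAt, hcardAt] at this
    change 128 = Nat.card Z * Nat.card A at this
    rw [hcardZ] at this
    omega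
  have hsqA : ∀ a ∈ A, a ^ 2 = 1 := by
    rintro _ ⟨y, hy, rfl⟩
    rw [← map_pow]
    refine (QuotientGroup.eq_one_iff _).2 ((hZ _).2 ?_)
    rw [map_pow, pow_two]
    rcases sq_check _ (mem_A0.1 hy) with e | e
    · exact Or.inl (toList_injective (by rw [toList_mul, e, toList_one]))
    · exact Or.inr (toList_injective (by rw [toList_mul, e, toList_zP]))
  have hinv : ∀ w ∈ A, w⁻¹ = w := fun w hw => inv_eq_of_mul_eq_one_left (by rw [← pow_two]; exact hsqA w hw)
  have hAc : IsMulCommutative A := by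
    refine ⟨⟨fun u v => Subtype.ext ?_⟩⟩
    have h3 := hinv _ (mul_mem u.2 v.2)
    rw [_root_.mul_inv_rev, hinv _ u.2, hinv _ v.2] at h3
    exact h3.symm
  refine ⟨⟨A, ⟨hAc, hsqA⟩, hcardA⟩, ?_⟩
  suffices key : ∀ B : Subgroup (P ⧸ Z), IsMulCommutative B → Nat.card B = 64 → B = A by
    intro A' B' h1 h2 h3 h4
    rw [key A' h1 h2, key B' h3 h4]
  intro B hB hBc
  choose y hy using fun s : ℕ => hsur (repP s) (repP_mem s)
  set r : ℕ → P ⧸ Z := fun s => π (y s)
  have hdec : ∀ u : P ⧸ Z, ∃ s < 8, (r s)⁻¹ * u ∈ A := by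
    intro u
    obtain ⟨w, rfl⟩ := QuotientGroup.mk'_surjective Z u
    obtain ⟨s, hs, hm⟩ := exists_rep (hin w)
    refine ⟨s, hs, (y s)⁻¹ * w, ?_, by rw [map_mul, map_inv]⟩
    show φ ((y s)⁻¹ * w) ∈ A0
    rwa [map_mul, map_inv, hy]
  choose sg hsg8 hsgA using hdec
  have hzero : ∀ u, sg u = 0 → u ∈ A := by
    intro u h
    have h0 : r 0 = 1 := by
      have : y 0 = 1 := hφ (by rw [hy, map_one]; simp [repP, bitP])
      simp [r, this]
    simpa [h, h0] using hsgA u
  set I := B ⊓ A
  set K : Finset ℕ := (Finset.range 8).filter fun s => ∃ b ∈ B, sg b = s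
  have hsgK : ∀ b ∈ B, sg b ∈ K := fun b hb =>
    Finset.mem_filter.2 ⟨Finset.mem_range.2 (hsg8 b), b, hb, rfl⟩
  have hbound : Nat.card B ≤ K.card * Nat.card I := by
    choose rep hrep hrep' using fun s : K => (Finset.mem_filter.1 s.2).2
    have hmem : ∀ b : B, (rep ⟨sg b, hsgK _ b.2⟩)⁻¹ * (b : P ⧸ Z) ∈ I := by
      intro b
      refine Subgroup.mem_inf.2 ⟨mul_mem (inv_mem (hrep _)) b.2, ?_⟩
      have h1 := hsgA (rep ⟨sg b, hsgK _ b.2⟩)
      rw [hrep'] at h1
      have h2 := mul_mem (inv_mem h1) (hsgA b)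
      rwa [_root_.mul_inv_rev, inv_inv, mul_assoc, mul_inv_cancel_left] at h2
    have hle := Nat.card_le_card_of_injective
      (fun b : B => ((⟨sg b, hsgK _ b.2⟩ : K), (⟨_, hmem b⟩ : I))) (fun a b hab => by
        simp only [Prod.mk.injEq, Subtype.mk.injEq] at hab
        obtain ⟨e1, e2⟩ := hab
        have e3 : rep ⟨sg a, hsgK _ a.2⟩ = rep ⟨sg b, hsgK _ b.2⟩ := congrArg rep (Subtype.ext e1)
        rw [e3] at e2
        exact Subtype.ext (mul_left_cancel e2))
    simpa [Nat.card_prod] using hle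
  have hC : ∀ L : List ℕ, (∀ s ∈ L, s ∈ K) → 2 * Nat.card I ≤ cnt (L.map repL) := by
    intro L hL
    have h1 : Nat.card (I.comap π) = 2 * Nat.card I := by rw [map_mk_facts, hcardZ]
    rw [← h1, cnt]
    refine card_le_filter (fun a : I.comap π => φ a) (hφ.comp Subtype.val_injective) _ fun a => ?_
    have ha : (a : P) ∈ At := hAt.le a.2.2
    rw [List.mem_filter, List.all_eq_true]
    refine ⟨mem_A0.1 ha, ?_⟩
    intro l hl
    obtain ⟨s, hs, rfl⟩ := List.mem_map.1 hl
    obtain ⟨-, b, hb, rfl⟩ := Finset.mem_filter.1 (hL s hs)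
    rw [← toList_repP, ← hy]
    refine hcomm _ _ ?_
    have hu := a.2
    have c1 : Commute b (π a) := congrArg Subtype.val (hB.is_comm.comm ⟨b, hb⟩ ⟨_, hu.1⟩)
    have c2 : Commute ((r (sg b))⁻¹ * b) (π a) :=
      congrArg Subtype.val (hAc.is_comm.comm ⟨_, hsgA b⟩ ⟨_, hu.2⟩)
    have c3 := c1.mul_left c2.inv_left
    rw [_root_.mul_inv_rev, inv_inv, mul_inv_cancel_left] at c3
    exact c3.eq
  by_cases hBA : B ≤ A
  · exact Subgroup.eq_of_le_of_card_ge hBA (by rw [hBc, hcardA])
  exfalso
  obtain ⟨b, hb, hbA⟩ := SetLike.not_le_iff_exists.1 hBA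
  have hsK := hsgK b hb
  set s := sg b
  have hs0 : 0 < s := Nat.pos_of_ne_zero fun h => hbA (hzero b h)
  have hI1 : 2 * Nat.card I ≤ 32 := (hC [s] (by simpa using hsK)).trans (by
    simpa using cnt_one s (hsg8 b) hs0)
  have hK8 : K.card ≤ 8 := (Finset.card_filter_le _ _).trans (Finset.card_range 8).le
  rw [hBc] at hbound
  have hKbig : ∃ t ∈ K, 0 < t ∧ t ≠ s := by
    by_contra hn
    push Not at hn
    have hsub : K ⊆ {0, s} := fun t ht => by
      rcases Nat.eq_zero_or_pos t with h | h
      · simp [h]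
      · simp [hn t ht h]
    have := (Finset.card_le_card hsub).trans Finset.card_le_two
    nlinarith
  obtain ⟨t, htK, ht0, hts⟩ := hKbig
  have ht8 : t < 8 := Finset.mem_range.1 (Finset.mem_filter.1 htK).1
  have hI2 : 2 * Nat.card I ≤ 16 := (hC [s, t] (by simp [hsK, htK])).trans (by
    simpa using cnt_two s (hsg8 b) t ht8 hs0 ht0 (Ne.symm hts))
  have hKall : K = Finset.range 8 := by
    refine Finset.eq_of_subset_of_card_le (Finset.filter_subset _ _) ?_
    rw [Finset.card_range]
    nlinarith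
  have hI3 : 2 * Nat.card I ≤ 8 := (hC [1, 2, 4] (fun u hu => hKall ▸ Finset.mem_range.2 (by
    simp at hu; omega))).trans (by simpa using cnt_three)
  nlinarith

end CfsgLib.Golay.SylowQuot
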